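import Mathlib

/-!
# Triangle-free strongly regular graphs whose valency and second parameter are powers of three
-/

set_option autoImplicit false

namespace Cfsg.Lib.Fischer.Clone

open Matrix

variable {V : Type*} [Fintype V] [DecidableEq V]

theorem trace_idempotent {P : Matrix V V ℝ} (h : P * P = P) : ∃ r : ℕ, P.trace = (r : ℝ) := by
  have hl : IsIdempotentElem (Matrix.toLin' P) := by
    show Matrix.toLin' P * Matrix.toLin' P = Matrix.toLin' P
    rw [Module.End.mul_eq_comp, ← Matrix.toLin'_mul, h]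
  refine ⟨Module.finrank ℝ (LinearMap.range (Matrix.toLin' P)), ?_⟩
  rw [← Matrix.trace_toLin'_eq]
  exact (LinearMap.IsIdempotentElem.isProj_range _ hl).trace

theorem srg_square (G : SimpleGraph V) [DecidableRel G.Adj] {v k n : ℕ} (h : G.IsSRGWith v k 0 n)
    (hv : 0 < v) :
    ((n : ℤ) * ((v : ℤ) - 1 - k) = (k : ℤ) * ((k : ℤ) - 1)) ∧
      ((∃ s : ℤ, s ^ 2 = (n : ℤ) ^ 2 - 4 * n + 4 * k) ∨ (n : ℤ) * ((v : ℤ) - 1) = 2 * k) := by
  set A := G.adjMatrix ℝ with hA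
  set J : Matrix V V ℝ := Matrix.of fun _ _ => 1 with hJ
  have hcard : (Fintype.card V : ℝ) = v := by rw [h.card]
  have hJJ : J * J = (v : ℝ) • J := by
    ext i j; simp [hJ, Matrix.mul_apply, hcard]
  have hAJ : A * J = (k : ℝ) • J := by
    ext i j
    rw [hA, SimpleGraph.adjMatrix_mul_apply]
    simp [hJ, h.regular i]
  have hJA : J * A = (k : ℝ) • J := by
    ext i j
    rw [hA, SimpleGraph.mul_adjMatrix_apply]
    simp [hJ, h.regular j]
  have hA2 : A * A = (k : ℝ) • (1 : Matrix V V ℝ) + (n : ℝ) • (J - 1 - A) := by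
    have e := h.matrix_eq (α := ℝ)
    rw [pow_two, zero_smul, add_zero, ← hA] at e
    have e2 : 1 + A + Gᶜ.adjMatrix ℝ = J := by
      have := G.one_add_adjMatrix_add_compl_adjMatrix_eq_of_one (α := ℝ)
      rw [G.compl_adjMatrix_eq_adjMatrix_compl ℝ, ← hA] at this
      exact this
    rw [e, ← Nat.cast_smul_eq_nsmul ℝ k, ← Nat.cast_smul_eq_nsmul ℝ n,
      show Gᶜ.adjMatrix ℝ = J - 1 - A by rw [← e2]; abel]
  have hpar : (n : ℝ) * ((v : ℝ) - 1 - k) = (k : ℝ) * ((k : ℝ) - 1) := by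
    obtain ⟨i⟩ : Nonempty V := Fintype.card_pos_iff.1 (by rw [h.card]; exact hv)
    have e1 : A * A * J = ((k : ℝ) * k) • J := by rw [mul_assoc, hAJ, mul_smul_comm, hAJ, smul_smul]
    rw [hA2] at e1
    simp only [add_mul, sub_mul, smul_mul_assoc, one_mul, hJJ, hAJ] at e1
    have e2 := congrFun (congrFun e1 i) i
    simp [hJ] at e2
    linarith
  have hparZ : (n : ℤ) * ((v : ℤ) - 1 - k) = (k : ℤ) * ((k : ℤ) - 1) := by exact_mod_cast hpar
  refine ⟨hparZ, ?_⟩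
  set Δ : ℤ := (n : ℤ) ^ 2 - 4 * n + 4 * k with hΔ
  by_cases hτ : (n : ℤ) * ((v : ℤ) - 1) = 2 * k
  · exact Or.inr hτ
  left
  have hk1 : k = 0 → False := by
    intro hk
    subst hk
    apply hτ
    have : (n : ℤ) * ((v : ℤ) - 1) = 0 := by simpa using hparZ
    simpa using this
  have hΔpos : 0 < Δ := by
    have hk2 : k ≠ 0 := fun e => hk1 e
    have hsq := sq_nonneg ((n : ℤ) - 2)
    rcases eq_or_ne k 1 with e1 | e1
    · subst e1
      rcases eq_or_ne ((n : ℤ) - 2) 0 with e2 | e2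
      · exfalso
        apply hτ
        rw [show (n : ℤ) = 2 by linarith] at hparZ ⊢
        push_cast at hparZ ⊢
        linarith
      · have := sq_pos_iff.2 e2
        rw [hΔ]
        push_cast
        nlinarith
    · have : 2 ≤ (k : ℤ) := by omega
      nlinarith
  set s : ℝ := Real.sqrt (Δ : ℝ) with hs
  have hΔR : (0 : ℝ) < (Δ : ℝ) := by exact_mod_cast hΔpos
  have hs0 : s ≠ 0 := (Real.sqrt_pos.2 hΔR).ne'
  have hss : s * s = (Δ : ℝ) := Real.mul_self_sqrt hΔR.le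
  have hΔe : (Δ : ℝ) = (n : ℝ) ^ 2 - 4 * n + 4 * k := by rw [hΔ]; push_cast; ring
  have hv0 : (v : ℝ) ≠ 0 := by exact_mod_cast hv.ne'
  set N : Matrix V V ℝ := (v : ℝ) • ((2 : ℝ) • A + (n : ℝ) • 1) - (2 * (k : ℝ) + n) • J with hN
  set E : Matrix V V ℝ := (v : ℝ) • 1 - J with hE
  have hEE : E * E = (v : ℝ) • E := by
    simp only [hE, sub_mul, mul_sub, smul_mul_assoc, mul_smul_comm, one_mul, mul_one, hJJ, smul_sub, smul_smul]
    module
  have hEN : E * N = (v : ℝ) • N := by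
    simp only [hE, hN, sub_mul, mul_sub, mul_add, smul_mul_assoc, mul_smul_comm, one_mul, mul_one, hJJ, hJA,
      smul_sub, smul_add, smul_smul]
    module
  have hNE : N * E = (v : ℝ) • N := by
    simp only [hE, hN, sub_mul, mul_sub, add_mul, smul_mul_assoc, mul_smul_comm, one_mul, mul_one, hJJ, hAJ,
      smul_sub, smul_add, smul_smul]
    module
  have hNN : N * N = ((v : ℝ) * (Δ : ℝ)) • E := by
    simp only [hE, hN, sub_mul, mul_sub, add_mul, mul_add, smul_mul_assoc, mul_smul_comm, one_mul, mul_one,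
      hJJ, hAJ, hJA, hA2, smul_sub, smul_add, smul_smul]
    rw [hΔe]
    match_scalars <;> first | ring1 | linear_combination (-4 * (v : ℝ)) * hpar | linear_combination (4 * (v : ℝ)) * hpar
  set P : Matrix V V ℝ := (2 * (v : ℝ))⁻¹ • E + (2 * (v : ℝ) * s)⁻¹ • N with hP
  have hPP : P * P = P := by
    simp only [hP, add_mul, mul_add, smul_mul_assoc, mul_smul_comm, hEE, hEN, hNE, hNN, smul_smul, smul_add]
    match_scalars <;> field_simp <;> first | ring1 | linear_combination -hss | linear_combination hss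
  obtain ⟨r, hr⟩ := trace_idempotent hPP
  have htJ : J.trace = v := by simp [hJ, Matrix.trace, hcard]
  have htA : A.trace = 0 := G.trace_adjMatrix ℝ
  have ht1 : (1 : Matrix V V ℝ).trace = v := by rw [Matrix.trace_one, hcard]
  simp only [hP, hE, hN, Matrix.trace_add, Matrix.trace_sub, Matrix.trace_smul, smul_eq_mul, htJ, htA, ht1] at hr
  have key : (2 * (r : ℝ) - ((v : ℝ) - 1)) * s = (n : ℝ) * ((v : ℝ) - 1) - 2 * k := by
    rw [← hr]
    field_simp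
    ring
  set c : ℤ := 2 * (r : ℤ) - ((v : ℤ) - 1) with hc
  set τ : ℤ := (n : ℤ) * ((v : ℤ) - 1) - 2 * k with hτ'
  have hR : c ^ 2 * Δ = τ ^ 2 := by
    have : ((c ^ 2 * Δ : ℤ) : ℝ) = ((τ ^ 2 : ℤ) : ℝ) := by
      rw [hc, hτ']
      push_cast
      rw [← key, ← hss]
      ring
    exact_mod_cast this
  obtain ⟨q, hq⟩ := (Int.pow_dvd_pow_iff (by norm_num : (2 : ℕ) ≠ 0)).1 (Dvd.intro Δ hR)
  refine ⟨q, ?_⟩
  have hc0 : c ≠ 0 := fun e => sub_ne_zero.2 hτ (by rw [← hτ', hq, e, zero_mul])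
  have : c ^ 2 * Δ = c ^ 2 * q ^ 2 := by rw [hR, hq]; ring
  exact (mul_left_cancel₀ (pow_ne_zero 2 hc0) this).symm

/-- The valency is three and two points at distance two have one common neighbour. -/
theorem valency_eq_three {v i j : ℕ} (hlt : 3 ^ i < 3 ^ j)
    (hpar : ((3 ^ i : ℕ) : ℤ) * ((v : ℤ) - 1 - (3 ^ j : ℕ)) = ((3 ^ j : ℕ) : ℤ) * (((3 ^ j : ℕ) : ℤ) - 1))
    (h : (∃ s : ℤ, s ^ 2 = ((3 ^ i : ℕ) : ℤ) ^ 2 - 4 * (3 ^ i : ℕ) + 4 * (3 ^ j : ℕ)) ∨
      ((3 ^ i : ℕ) : ℤ) * ((v : ℤ) - 1) = 2 * (3 ^ j : ℕ)) :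
    j = 1 ∧ i = 0 := by
  have hij : i < j := (Nat.pow_lt_pow_iff_right (by norm_num)).1 hlt
  have hk : (3 : ℤ) ≤ ((3 ^ j : ℕ) : ℤ) := by
    exact_mod_cast Nat.le_self_pow (show j ≠ 0 by omega) 3
  have hn : (1 : ℤ) ≤ ((3 ^ i : ℕ) : ℤ) := by exact_mod_cast Nat.one_le_pow i 3 (by norm_num)
  rcases h with ⟨s₀, hs₀⟩ | h
  swap
  · exfalso
    nlinarith
  obtain ⟨s, hs, hsnn⟩ : ∃ s : ℤ, s ^ 2 = ((3 ^ i : ℕ) : ℤ) ^ 2 - 4 * (3 ^ i : ℕ) + 4 * (3 ^ j : ℕ) ∧ 0 ≤ s :=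
    ⟨|s₀|, by rw [sq_abs]; exact hs₀, abs_nonneg _⟩
  set n : ℤ := ((3 ^ i : ℕ) : ℤ) with hn'
  set k : ℤ := ((3 ^ j : ℕ) : ℤ) with hk'
  have heven : Even (s - (n - 2)) := by
    have : Even (s ^ 2 - (n - 2) ^ 2) := ⟨2 * (k - 1), by rw [hs]; ring⟩
    rw [Int.even_sub, Int.even_pow' two_ne_zero, Int.even_pow' two_ne_zero] at this
    rwa [Int.even_sub]
  obtain ⟨c, hc⟩ := heven
  have hc1 : 1 ≤ c := by
    by_contra hcon
    nlinarith
  have heq : c * (c + n - 2) = k - 1 := by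
    have : s = n - 2 + 2 * c := by linarith
    rw [this] at hs
    linarith
  rcases Nat.eq_zero_or_pos i with rfl | hi
  · refine ⟨?_, rfl⟩
    by_contra hj
    have h9 : (9 : ℕ) ∣ 3 ^ j := by
      rw [show (9 : ℕ) = 3 ^ 2 by norm_num]
      exact Nat.pow_dvd_pow 3 (by omega)
    have e : ((c * c - c + 1 : ℤ) : ZMod 9) = ((3 ^ j : ℕ) : ZMod 9) := by
      have : c * c - c + 1 = ((3 ^ j : ℕ) : ℤ) := by
        rw [← hk']
        simp [hn'] at heq
        linarith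
      rw [this, Int.cast_natCast]
    rw [(ZMod.natCast_eq_zero_iff (3 ^ j) 9).2 h9] at e
    push_cast at e
    exact (by decide : ∀ z : ZMod 9, z * z - z + 1 ≠ 0) _ e
  exfalso
  have e1 : (c - 1) ^ 2 + c * n = k := by linarith
  have h3n : (3 : ℤ) ∣ n := by
    rw [hn']; exact_mod_cast dvd_pow_self 3 (by omega : i ≠ 0)
  have h3k : (3 : ℤ) ∣ k := by
    rw [hk']; exact_mod_cast dvd_pow_self 3 (by omega : j ≠ 0)
  have h3c : (3 : ℤ) ∣ (c - 1) ^ 2 := by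
    rw [show (c - 1) ^ 2 = k - c * n by linarith]
    exact dvd_sub h3k (h3n.mul_left c)
  obtain ⟨d', hd'⟩ := Int.prime_three.dvd_of_dvd_pow h3c
  obtain ⟨d, rfl⟩ := Int.eq_ofNat_of_zero_le (show 0 ≤ d' by omega)
  have eN : 9 * d ^ 2 + (1 + 3 * d) * 3 ^ i = 3 ^ j := by
    have : (9 * (d : ℤ) ^ 2 + (1 + 3 * (d : ℤ)) * n) = k := by
      rw [show c = 1 + 3 * (d : ℤ) by linarith] at e1
      linarith
    rw [hn', hk'] at this
    exact_mod_cast this
  rcases Nat.eq_zero_or_pos d with rfl | hd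
  · simp at eN
    omega
  obtain ⟨e, d0, hd0, hdd⟩ := Nat.exists_eq_pow_mul_and_not_dvd hd.ne' 3 (by norm_num)
  have eM : 3 ^ (2 + 2 * e) * d0 ^ 2 + 3 ^ i * (1 + 3 * d) = 3 ^ j := by
    rw [← eN, hdd]; ring
  have hz : ∀ z : ZMod 3, z ≠ 0 → z ^ 2 ≠ 0 ∧ z ^ 2 + 1 ≠ 0 := by decide
  have hd0' : (d0 : ZMod 3) ≠ 0 := fun e => hd0 ((ZMod.natCast_eq_zero_iff _ _).1 e)
  have h30 : (3 : ZMod 3) = 0 := rfl
  rcases lt_trichotomy i (2 + 2 * e) with hlt' | heq' | hgt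
  · obtain ⟨a, ha⟩ := Nat.exists_eq_add_of_lt hlt'
    obtain ⟨b, hb⟩ := Nat.exists_eq_add_of_lt hij
    have : 3 ^ (a + 1) * d0 ^ 2 + (1 + 3 * d) = 3 ^ (b + 1) := by
      refine Nat.eq_of_mul_eq_mul_left (show 0 < 3 ^ i by positivity) ?_
      rw [mul_add, ← mul_assoc, ← pow_add, ← pow_add, ← add_assoc, ← add_assoc, ← ha, ← hb]
      exact eM
    have := congrArg (fun m : ℕ => (m : ZMod 3)) this
    simp [pow_succ, h30] at this
  · obtain ⟨b, hb⟩ := Nat.exists_eq_add_of_lt hij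
    have : d0 ^ 2 + (1 + 3 * d) = 3 ^ (b + 1) := by
      refine Nat.eq_of_mul_eq_mul_left (show 0 < 3 ^ i by positivity) ?_
      rw [mul_add, ← pow_add, ← add_assoc, ← hb]
      rw [← heq'] at eM
      exact eM
    have := congrArg (fun m : ℕ => (m : ZMod 3)) this
    simp [pow_succ, h30] at this
    exact (hz _ hd0').2 (by rw [pow_two]; exact this)
  · obtain ⟨a, ha⟩ := Nat.exists_eq_add_of_lt hgt
    obtain ⟨b, hb⟩ := Nat.exists_eq_add_of_lt (show 2 + 2 * e < j by omega)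
    have : d0 ^ 2 + 3 ^ (a + 1) * (1 + 3 * d) = 3 ^ (b + 1) := by
      refine Nat.eq_of_mul_eq_mul_left (show 0 < 3 ^ (2 + 2 * e) by positivity) ?_
      rw [mul_add, ← mul_assoc, ← pow_add, ← pow_add, ← add_assoc, ← add_assoc, ← ha, ← hb]
      exact eM
    have := congrArg (fun m : ℕ => (m : ZMod 3)) this
    simp [pow_succ, h30] at this
    exact hd0' this

end Cfsg.Lib.Fischer.Clone
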