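import Cfsg.Agent.Lib.Fischer.RankThree
import Cfsg.Agent.Lib.Fischer.Classes

/-!
# Two members with the same neighbours among the neighbours of a third
-/

set_option autoImplicit false

namespace Cfsg.Lib.Fischer.Clone

open Cfsg.Lib.Fischer

variable {G : Type*} [Group G] {D : Set G}

/-- `y` and `w` are neighbours of `x` which no neighbour of `x` separates. -/
def IsClone (D : Set G) (x y w : G) : Prop :=
  y ∈ perp D x ∧ w ∈ perp D x ∧ y ≠ w ∧ ∀ d ∈ perp D x, (d ∈ perp D y ↔ d ∈ perp D w)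

theorem not_commute {x y w : G} (h : IsClone D x y w) : ¬ Commute y w := fun hc =>
  ((h.2.2.2 w h.2.1).1 ⟨h.2.1.1, h.2.2.1.symm, hc⟩).2.1 rfl

theorem mem_perp_symm {a b : G} (ha : a ∈ D) (h : b ∈ perp D a) : a ∈ perp D b :=
  ⟨ha, h.2.1.symm, h.2.2.symm⟩

theorem conj_clone (hD : Trans D) (g : G) {x y w : G} (h : IsClone D x y w) :
    IsClone D (g * x * g⁻¹) (g * y * g⁻¹) (g * w * g⁻¹) := by
  obtain ⟨hy, hw, hne, hiff⟩ := h
  refine ⟨?_, ?_, fun e => hne (by simpa using e), fun d hd => ?_⟩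
  · rw [mem_perp_conj hD]; simpa [mul_assoc] using hy
  · rw [mem_perp_conj hD]; simpa [mul_assoc] using hw
  · rw [mem_perp_conj hD] at hd
    rw [mem_perp_conj hD, mem_perp_conj hD]
    exact hiff _ hd

theorem conj_eq_of_commute {g a : G} (h : Commute g a) : g * a * g⁻¹ = a := by
  rw [h.eq, mul_inv_cancel_right]

theorem cj_clone (hD : Trans D) {c x u u' : G} (hc : c ∈ D) (h1 : Commute c u) (h2 : Commute c u')
    (h : IsClone D x u u') : IsClone D (cj c x) u u' := by
  have := conj_clone hD c h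
  rwa [conj_eq_of_commute h1, conj_eq_of_commute h2, ← cj_conj hD hc] at this

/-- Conjugation by a member commuting with `a` moves through conjugation by `a`. -/
theorem cj_swap (hD : Trans D) {a b : G} (ha : a ∈ D) (h : Commute a b) (z : G) :
    cj a (cj b z) = cj b (cj a z) := by
  rw [cj_cj_dist hD ha, cj_of_commute hD ha h]

/-- Five members in the shape of the diagram D5 have a further member commuting with the two ends `x`, `y`
but not with `w`. -/
theorem exists_separator (hD : Trans D) {x y w u v : G} (hx : x ∈ D) (hy : y ∈ D) (hw : w ∈ D)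
    (hu : u ∈ D) (hv : v ∈ D) (hxu : Commute x u) (hne : x ≠ u) (hyx : Commute y x) (hyu : Commute y u)
    (hwx : Commute w x) (hwu : Commute w u) (hvy : Commute v y) (hyw : ¬ Commute y w)
    (hwv : ¬ Commute w v) (hvx : ¬ Commute v x) (hvu : ¬ Commute v u) :
    ∃ r ∈ D, Commute x r ∧ Commute y r ∧ r ≠ x ∧ r ≠ y ∧ ¬ Commute w r := by
  have pull : ∀ {c a b : G}, c ∈ D → (Commute (cj c a) b ↔ Commute a (cj c b)) := fun hc =>
    commute_cj_left hD hc
  have hbr : ∀ {a b : G}, a ∈ D → b ∈ D → ¬ Commute a b → cj a b = cj b a := fun ha hb h => braid hD ha hb h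
  set t := cj x v with ht
  set q := cj y (cj w t) with hq
  have hvx' : cj v x = t := hbr hv hx hvx
  have hvw : cj v w = cj w v := hbr hv hw fun h => hwv h.symm
  have hyt : cj y t = t := by
    rw [ht, cj_swap hD hy hyx, cj_of_commute hD hy hvy.symm]
  have hwq : cj w q = q := by
    have hbraidop : ∀ z, cj w (cj y (cj w z)) = cj y (cj w (cj y z)) := fun z => by
      have e : cj (cj w y) z = cj (cj y w) z := by rw [hbr hw hy fun h => hyw h.symm]
      calc cj w (cj y (cj w z)) = cj (cj w y) (cj w (cj w z)) := cj_cj_dist hD hw _ _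
        _ = cj (cj y w) z := by rw [cj_cj hD hw, e]
        _ = cj (cj y w) (cj y (cj y z)) := by rw [cj_cj hD hy]
        _ = cj y (cj w (cj y z)) := (cj_cj_dist hD hy _ _).symm
    rw [hq, hbraidop, hyt]
  have hvq : cj v q = q := by
    have hbraidop : ∀ z, cj v (cj w (cj v z)) = cj w (cj v (cj w z)) := fun z => by
      calc cj v (cj w (cj v z)) = cj (cj v w) (cj v (cj v z)) := cj_cj_dist hD hv _ _
        _ = cj (cj w v) z := by rw [cj_cj hD hv, hvw]
        _ = cj (cj w v) (cj w (cj w z)) := by rw [cj_cj hD hw]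
        _ = cj w (cj v (cj w z)) := (cj_cj_dist hD hw _ _).symm
    rw [hq, cj_swap hD hv hvy, ← hvx', hbraidop, cj_of_commute hD hw hwx]
  set a1 := cj v u
  set a2 := cj w a1
  set a3 := cj y a2
  set a4 := cj x a3
  set a5 := cj v a4
  set r := cj w a5
  have hr : r ∈ D := cj_mem hD hw (cj_mem hD hv (cj_mem hD hx (cj_mem hD hy (cj_mem hD hw (cj_mem hD hv hu)))))
  have hxv : cj x (cj v w) = cj w t := by
    rw [hvw, cj_swap hD hx hwx.symm]
  have t3 : cj x (cj v (cj w y)) = q := by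
    rw [hbr hw hy (fun h => hyw h.symm), cj_swap hD hv hvy, cj_swap hD hx hyx.symm, hxv]
  have t6 : cj v (cj w (cj y q)) = x := by
    rw [hq, cj_cj hD hy, cj_cj hD hw, ← hvx', cj_cj hD hv]
  refine ⟨r, hr, ?_, ?_, ?_, ?_, ?_⟩
  · show Commute x r
    refine Commute.symm ?_
    rw [pull hw, cj_of_commute hD hw hwx, pull hv, hvx', pull hx, ht, cj_cj hD hx, pull hy,
      cj_of_commute hD hy hvy.symm, pull hw, pull hv, ← hvw, cj_cj hD hv]
    exact hwu.symm
  · show Commute y r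
    refine Commute.symm ?_
    rw [pull hw, pull hv, pull hx, t3, pull hy, pull hw, pull hv, t6]
    exact hxu.symm
  · intro e
    have h1 : Commute r w := e ▸ hwx.symm
    rw [pull hw, cj_self hD hw, pull hv, pull hx, hxv, pull hy, ← hq, pull hw, hwq, pull hv, hvq, hq,
      ← pull hy, cj_of_commute hD hy hyu, ← pull hw, cj_of_commute hD hw hwu, ht, ← pull hx,
      cj_of_commute hD hx hxu] at h1
    exact hvu h1.symm
  · intro e
    have h5 : cj v (cj w (cj y (cj x (cj v (cj w r))))) = u := by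
      simp only [r, a5, a4, a3, a2, a1, cj_cj hD hw, cj_cj hD hv, cj_cj hD hx, cj_cj hD hy]
    rw [e, t3, t6] at h5
    exact hne h5
  · intro h
    have h1 : Commute r w := h.symm
    rw [pull hw, cj_self hD hw, pull hv, pull hx, hxv, pull hy, ← hq, pull hw, hwq, pull hv, hvq, hq,
      ← pull hy, cj_of_commute hD hy hyu, ← pull hw, cj_of_commute hD hw hwu, ht, ← pull hx,
      cj_of_commute hD hx hxu] at h1
    exact hvu h1.symm

variable [Finite G] (hF : IsFischer D)

include hF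

/-- A member commuting with `y` but not with its clone `w` is a clone of `x` at `y`. -/
theorem clone_of_separating {x y w v : G} (hx : x ∈ D) (h : IsClone D x y w) (hv : v ∈ perp D y)
    (hvw : v ∉ perp D w) : IsClone D y x v ∧ ¬ Commute v w := by
  classical
  have hD := hF.toTrans
  obtain ⟨hy, hw, hne, hiff⟩ := id h
  have hxy : x ∈ perp D y := mem_perp_symm hx hy
  have hxw : x ∈ perp D w := mem_perp_symm hx hw
  have hnc : ¬ Commute v w := fun hc => hvw ⟨hv.1, fun e => not_commute h (e ▸ hv.2.2), hc.symm⟩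
  have hvx : ¬ Commute v x := fun hc => by
    rcases eq_or_ne v x with rfl | hne'
    · exact hvw hxw
    · exact hvw ((hiff v ⟨hv.1, hne', hc.symm⟩).1 hv)
  have hsub : perp D x ∩ perp D y ⊆ perp D v ∩ perp D y := by
    rintro u ⟨hux, huy⟩
    refine ⟨?_, huy⟩
    have huw := (hiff u hux).1 huy
    refine ⟨hux.1, fun e => hvw (e ▸ huw), ?_⟩
    by_contra hcu
    obtain ⟨r, hr, hxr, hyr, hrx, hry, hwr⟩ := exists_separator hD hx hy.1 hw.1 hux.1 hv.1 hux.2.2
      hux.2.1.symm hy.2.2.symm huy.2.2 hw.2.2.symm huw.2.2 hv.2.2.symm (not_commute h)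
      (fun hc => hnc hc.symm) hvx hcu
    exact hwr ((hiff r ⟨hr, hrx, hxr⟩).1 ⟨hr, hry, hyr⟩).2.2
  obtain ⟨g, hg, e⟩ := perp_transitive hF hy.1 hxy hv
  have hgy : g * y * g⁻¹ = y := conj_eq_of_commute
    (commute_of_mem_closure hF hy.1 (Subgroup.closure_mono (Set.subset_insert _ _) hg))
  have himg : ∀ d ∈ perp D v ∩ perp D y, g⁻¹ * d * g ∈ perp D x ∩ perp D y := by
    rintro d ⟨h1, h2⟩
    rw [← e, mem_perp_conj hD] at h1
    rw [← hgy, mem_perp_conj hD] at h2
    exact ⟨h1, h2⟩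
  have heq : perp D x ∩ perp D y = perp D v ∩ perp D y := by
    refine Set.eq_of_subset_of_ncard_le hsub ?_ (Set.toFinite _)
    exact Set.ncard_le_ncard_of_injOn (fun d => g⁻¹ * d * g) himg (fun a _ b _ e => by simpa using e) (Set.toFinite _)
  refine ⟨⟨hxy, hv, fun e => hvw (e ▸ hxw), fun d hd => ⟨fun hdx => ?_, fun hdv => ?_⟩⟩, hnc⟩
  · exact (heq ▸ (⟨hdx, hd⟩ : d ∈ perp D x ∩ perp D y) : d ∈ perp D v ∩ perp D y).1
  · exact (heq.symm ▸ (⟨hdv, hd⟩ : d ∈ perp D v ∩ perp D y) : d ∈ perp D x ∩ perp D y).1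

/-- A neighbour with a clone: every neighbour has one. -/
theorem exists_clone {x₀ y₀ w₀ : G} (hx₀ : x₀ ∈ D) (h : IsClone D x₀ y₀ w₀) {x u : G} (hx : x ∈ D)
    (hu : u ∈ perp D x) : ∃ u', IsClone D x u u' := by
  have hD := hF.toTrans
  obtain ⟨g, hg⟩ := hD.trans x₀ hx₀ x hx
  have h1 := conj_clone hD g h
  rw [hg] at h1
  obtain ⟨k, hk, e⟩ := perp_transitive hF hx h1.1 hu
  have h2 := conj_clone hD k h1
  rw [conj_eq_of_commute (commute_of_mem_closure hF hx (Subgroup.closure_mono (Set.subset_insert _ _) hk)), e] at h2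
  exact ⟨_, h2⟩

/-- With clones no two neighbours of a member commute. -/
theorem noncommuting_perp {x₀ y₀ w₀ : G} (hx₀ : x₀ ∈ D) (h₀ : IsClone D x₀ y₀ w₀) {x y u : G} (hx : x ∈ D)
    (hy : y ∈ perp D x) (hu : u ∈ perp D x) (hc : Commute y u) : y = u := by
  by_contra hne
  have hD := hF.toTrans
  obtain ⟨w, h⟩ := exists_clone hF hx₀ h₀ hx hy
  obtain ⟨u', hQ⟩ := exists_clone hF hx₀ h₀ hx hu
  have huy : u ∈ perp D y := ⟨hu.1, Ne.symm hne, hc⟩
  have hyu : y ∈ perp D u := mem_perp_symm hy.1 huy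
  have hu'y : u' ∈ perp D y := mem_perp_symm hQ.2.1.1 ((hQ.2.2.2 y hy).1 hyu)
  obtain ⟨v, hv, hvw⟩ : ∃ v ∈ perp D y, v ∉ perp D w := by
    by_contra hcon
    push Not at hcon
    exact h.2.2.1 (eq_of_perp_subset hF hy.1 h.2.1.1 hcon)
  obtain ⟨h', hnc⟩ := clone_of_separating hF hx h hv hvw
  have hcomm : ∀ c, (c = x ∨ c = y ∨ c = v ∨ c = w) → Commute c u ∧ Commute c u' := by
    rintro c (rfl | rfl | rfl | rfl)
    · exact ⟨hu.2.2, hQ.2.1.2.2⟩
    · exact ⟨huy.2.2, hu'y.2.2⟩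
    · exact ⟨((h'.2.2.2 u huy).1 hu).2.2, ((h'.2.2.2 u' hu'y).1 hQ.2.1).2.2⟩
    · exact ⟨((h.2.2.2 u hu).1 huy).2.2, ((h.2.2.2 u' hQ.2.1).1 hu'y).2.2⟩
  have hcjc : ∀ {a b : G}, a ∈ D → (Commute a u ∧ Commute a u') → (Commute b u ∧ Commute b u') →
      Commute (cj a b) u ∧ Commute (cj a b) u' := fun {a b} ha h1 h2 => by
    rw [cj_def]
    exact ⟨(h1.1.mul_left h2.1).mul_left h1.1, (h1.2.mul_left h2.2).mul_left h1.2⟩
  have cX := hcomm x (Or.inl rfl)
  have cY := hcomm y (Or.inr (Or.inl rfl))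
  have cV := hcomm v (Or.inr (Or.inr (Or.inl rfl)))
  have cW := hcomm w (Or.inr (Or.inr (Or.inr rfl)))
  have hwD : w ∈ D := h.2.1.1
  have hxv : ¬ Commute x v := not_commute h'
  have hyw : ¬ Commute y w := not_commute h
  have cH := hcjc hx cX cV
  have Qh : IsClone D (cj x v) u u' := by
    rw [braid hD hx hv.1 hxv]
    exact cj_clone hD hv.1 cV.1 cV.2 hQ
  have Qv : IsClone D v u u' := by
    rw [← cj_third hD hx hv.1 hxv]
    exact cj_clone hD (cj_mem hD hx hv.1) cH.1 cH.2 hQ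
  have Qz : IsClone D (cj w v) u u' := cj_clone hD hwD cW.1 cW.2 Qv
  have Qw : IsClone D w u u' := by
    have := cj_clone hD hv.1 cV.1 cV.2 Qz
    rwa [← braid hD hv.1 hwD hnc, cj_cj hD hv.1] at this
  have Qy : IsClone D y u u' := by
    rw [← cj_third hD hwD hy.1 fun hh => hyw hh.symm]
    have c := hcjc hwD cW cY
    exact cj_clone hD (cj_mem hD hwD hy.1) c.1 c.2 Qw
  obtain ⟨d, hd, hdu'⟩ : ∃ d ∈ perp D u, d ∉ perp D u' := by
    by_contra hcon
    push Not at hcon
    exact hQ.2.2.1 (eq_of_perp_subset hF hu.1 hQ.2.1.1 hcon)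
  have h1 := (clone_of_separating hF hx hQ hd hdu').1
  have h2 := (clone_of_separating hF hy.1 Qy hd hdu').1
  have hdy : y ∈ perp D d := (h1.2.2.2 y hyu).1 hy
  exact not_commute h2 hdy.2.2.symm

end Cfsg.Lib.Fischer.Clone
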