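import Cfsg.Agent.Lib.Fischer.Clone.Basic
import Cfsg.Agent.Lib.Fischer.Clone.Arith
import Cfsg.Agent.Lib.Fischer.LocalSym.Main
import Cfsg.Agent.Lib.Core.Cores

/-!
# A local group with non-central odd core belongs to the symmetric group of degree five
-/

set_option autoImplicit false
set_option linter.style.haveILetI false

namespace Cfsg.Lib.Fischer.Clone

open Cfsg Cfsg.Lib.Fischer

variable {G : Type*} [Group G] [Finite G] {D : Set G}

/-- A conjugation-closed set of members without a commuting pair has a power of three members. -/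
theorem card_three_pow (hD : Trans D) {S : Set G} (hS : S ⊆ D) (hcl : ∀ u ∈ S, ∀ v ∈ S, cj u v ∈ S)
    (hnc : ∀ u ∈ S, ∀ v ∈ S, Commute u v → u = v) (hne : S.Nonempty) : ∃ j : ℕ, S.ncard = 3 ^ j := by
  haveI : Fact (Nat.Prime 3) := ⟨Nat.prime_three⟩
  obtain ⟨a, ha⟩ := hne
  obtain ⟨P, hP, hPm, -⟩ := exists_three_of_subset hD hS hcl hnc ha
  set Q := P ⊓ Subgroup.closure S
  have hQ : IsPGroup 3 Q := hP.to_le inf_le_left
  have hconj : ∀ g ∈ Subgroup.closure S, ∀ v ∈ S, g * v * g⁻¹ ∈ S := by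
    intro g hg
    induction hg using Subgroup.closure_induction'' with
    | mem u hu => intro v hv; rw [← cj_conj hD (hS hu)]; exact hcl u hu v hv
    | inv_mem u hu => intro v hv; rw [inv_eq hD (hS hu), ← cj_conj hD (hS hu)]; exact hcl u hu v hv
    | one => intro v hv; simpa using hv
    | mul x y _ _ hx hy => intro v hv; simpa [mul_assoc] using hx _ (hy v hv)
  let f : Q → G := fun g => (g : G) * a * (g : G)⁻¹
  have hS' : S = Set.range f := by
    apply Set.Subset.antisymm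
    · intro b hb
      refine ⟨⟨a * b, hPm b hb, mul_mem (Subgroup.subset_closure ha) (Subgroup.subset_closure hb)⟩, ?_⟩
      show a * b * a * (a * b)⁻¹ = b
      by_cases hc : Commute a b
      · rw [← hnc a ha b hb hc]; simp
      · have e := cj_third hD (hS ha) (hS hb) hc
        rw [mul_inv_rev, inv_eq hD (hS ha), inv_eq hD (hS hb)]
        conv_rhs => rw [← e]
        have haa : ∀ z : G, a * (a * z) = z := fun z => by rw [← mul_assoc, mul_self hD (hS ha), one_mul]
        simp only [cj_def, mul_assoc, haa]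
    · rintro _ ⟨⟨g, -, hg⟩, rfl⟩
      exact hconj g hg a ha
  set C := (Subgroup.centralizer ({a} : Set G)).comap Q.subtype with hC
  obtain ⟨j, hj⟩ := hQ.index C
  refine ⟨j, ?_⟩
  have hker : ∀ g h : Q, f g = f h ↔ g⁻¹ * h ∈ C := by
    intro g h
    rw [hC, Subgroup.mem_comap, Subgroup.mem_centralizer_singleton_iff]
    show (g : G) * a * (g : G)⁻¹ = (h : G) * a * (h : G)⁻¹ ↔ (g : G)⁻¹ * h * a = a * ((g : G)⁻¹ * h)
    constructor
    · intro e
      calc (g : G)⁻¹ * h * a = (g : G)⁻¹ * (h * a * (h : G)⁻¹) * h := by group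
        _ = (g : G)⁻¹ * (g * a * (g : G)⁻¹) * h := by rw [e]
        _ = _ := by group
    · intro e
      calc (g : G) * a * (g : G)⁻¹ = g * (a * ((g : G)⁻¹ * h)) * (h : G)⁻¹ := by group
        _ = g * ((g : G)⁻¹ * h * a) * (h : G)⁻¹ := by rw [e]
        _ = _ := by group
  let e : Q ⧸ C ≃ Set.range f :=
    (Quotient.congrRight fun g h => by
      rw [QuotientGroup.leftRel_apply]
      exact (hker g h).symm).trans (Setoid.quotientKerEquivRange f)
  rw [hS', ← Nat.card_coe_set_eq, ← Nat.card_congr e, ← hj]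
  rfl

/-- Without commuting neighbours every member has exactly three neighbours. -/
theorem cubic (hF : IsFischer D) (hnc : ∀ x ∈ D, ∀ y ∈ perp D x, ∀ u ∈ perp D x, Commute y u → y = u) :
    LocalSym.Cubic D := by
  classical
  have hD := hF.toTrans
  haveI : Fintype G := Fintype.ofFinite G
  obtain ⟨x₀, hx₀⟩ := hD.ne
  obtain ⟨b₀, hb₀, hxb₀⟩ := exists_not_commute hF hx₀
  have hperp_image : ∀ g x : G, perp D (g * x * g⁻¹) = MulAut.conj g '' perp D x := by
    intro g x
    ext z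
    rw [mem_perp_conj hD]
    refine ⟨fun h => ⟨_, h, by simp [mul_assoc]⟩, ?_⟩
    rintro ⟨w, hw, rfl⟩
    simpa [mul_assoc] using hw
  have hk : ∀ x ∈ D, (perp D x).ncard = (perp D x₀).ncard := by
    intro x hx
    obtain ⟨g, rfl⟩ := hD.trans x₀ hx₀ x hx
    rw [hperp_image, Set.ncard_image_of_injective _ (MulAut.conj g).injective]
  have hμ : ∀ a ∈ D, ∀ b ∈ D, ¬ Commute a b →
      (perp D a ∩ perp D b).ncard = (perp D x₀ ∩ perp D b₀).ncard := by
    intro a ha b hb hab
    obtain ⟨g, rfl⟩ := hD.trans x₀ hx₀ a ha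
    have hb' : g⁻¹ * b * g ∈ D := by simpa using hD.conj g⁻¹ b hb
    have hab' : ¬ Commute x₀ (g⁻¹ * b * g) := fun h => hab (by
      simpa [mul_assoc] using (Commute.conj_iff g).2 h)
    obtain ⟨k, hk', e⟩ := orb_all hF hx₀ hb₀ hb' hxb₀ hab'
    have ex : k * x₀ * k⁻¹ = x₀ := conj_eq_of_commute (commute_of_mem_closure hF hx₀ hk')
    have e1 : g * x₀ * g⁻¹ = (g * k) * x₀ * (g * k)⁻¹ := by
      conv_lhs => rw [← ex]
      group
    have e2 : b = (g * k) * b₀ * (g * k)⁻¹ := by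
      calc b = g * (g⁻¹ * b * g) * g⁻¹ := by group
        _ = g * (k * b₀ * k⁻¹) * g⁻¹ := by rw [e]
        _ = _ := by group
    rw [e1, e2, hperp_image, hperp_image, ← Set.image_inter (MulAut.conj (g * k)).injective,
      Set.ncard_image_of_injective _ (MulAut.conj (g * k)).injective]
  set V := {d : G // d ∈ D}
  let Γ : SimpleGraph V :=
    { Adj := fun a b => a.1 ≠ b.1 ∧ Commute a.1 b.1
      symm := ⟨fun a b h => ⟨h.1.symm, h.2.symm⟩⟩
      loopless := ⟨fun a h => h.1 rfl⟩ }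
  have hnb : ∀ a : V, Subtype.val '' Γ.neighborSet a = perp D a.1 := by
    intro a
    ext z
    refine ⟨?_, fun h => ⟨⟨z, h.1⟩, ⟨h.2.1.symm, h.2.2⟩, rfl⟩⟩
    rintro ⟨b, hb, rfl⟩
    exact ⟨b.2, hb.1.symm, hb.2⟩
  have hsrg : Γ.IsSRGWith (Fintype.card V) (perp D x₀).ncard 0 (perp D x₀ ∩ perp D b₀).ncard :=
    { card := rfl
      regular := fun a => by
        rw [← hk a.1 a.2, ← hnb a, Set.ncard_image_of_injective _ Subtype.val_injective,
          ← SimpleGraph.card_neighborSet_eq_degree, ← Nat.card_eq_fintype_card, Nat.card_coe_set_eq]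
      of_adj := fun a b hab => by
        rw [Fintype.card_eq_zero_iff]
        refine ⟨fun c => ?_⟩
        obtain ⟨c, hca, hcb⟩ := c
        exact hcb.1 (hnc a.1 a.2 b.1 ⟨b.2, hab.1.symm, hab.2⟩ c.1 ⟨c.2, hca.1.symm, hca.2⟩ hcb.2)
      of_not_adj := fun a b hne hab => by
        have hn : ¬ Commute a.1 b.1 := fun h => hab ⟨fun e => hne (Subtype.ext e), h⟩
        rw [← Nat.card_eq_fintype_card, Nat.card_coe_set_eq, SimpleGraph.commonNeighbors_eq,
          ← hμ a.1 a.2 b.1 b.2 hn, ← hnb a, ← hnb b, ← Set.image_inter Subtype.val_injective,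
          Set.ncard_image_of_injective _ Subtype.val_injective] }
  obtain ⟨hpar, hsq⟩ := srg_square Γ hsrg (Fintype.card_pos_iff.2 ⟨⟨x₀, hx₀⟩⟩)
  have hclosed : ∀ x ∈ D, ∀ u ∈ perp D x, ∀ v ∈ perp D x, cj u v ∈ perp D x := fun x hx u hu v hv =>
    (cj_mem_perp hD hx (Set.mem_insert_of_mem _ hu) hv).1
  obtain ⟨p, hp, hpx, hpc⟩ := exists_perp hF hx₀
  obtain ⟨j, hj⟩ := card_three_pow hD (S := perp D x₀) (fun z hz => hz.1) (hclosed x₀ hx₀) (hnc x₀ hx₀)
    ⟨p, hp, hpx, hpc⟩
  obtain ⟨q, hq⟩ := common_nonempty hF hx₀ hb₀ hxb₀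
  obtain ⟨i, hi⟩ := card_three_pow hD (S := perp D x₀ ∩ perp D b₀) (fun z hz => hz.1.1)
    (fun u hu v hv => ⟨hclosed x₀ hx₀ u hu.1 v hv.1, hclosed b₀ hb₀ u hu.2 v hv.2⟩)
    (fun u hu v hv => hnc x₀ hx₀ u hu.1 v hv.1)
    ⟨q, hq.1, hq.1.1, fun e => hxb₀ (e ▸ hq.1.2.2), hq.2⟩
  have hlt : 3 ^ i < 3 ^ j := by
    rw [← hi, ← hj]
    refine Set.ncard_lt_ncard ⟨Set.inter_subset_left, fun h => ?_⟩ (Set.toFinite _)
    exact hxb₀ ((eq_of_perp_subset hF hx₀ hb₀ fun z hz => (h hz).2) ▸ Commute.refl x₀)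
  rw [hj, hi] at hpar hsq
  obtain ⟨rfl, -⟩ := valency_eq_three hlt hpar hsq
  have hthree : ∀ x ∈ D, (perp D x).ncard = 3 := fun x hx => by rw [hk x hx, hj, pow_one]
  refine ⟨hD.set, hD.conj, fun d hd => ?_, fun d hd a ha b hb hab h => hab (hnc d hd a ha b hb h),
    fun d hd a ha b hb hab c hc => ?_⟩
  · obtain ⟨a, b, ha, hb, hab⟩ := (Set.one_lt_ncard_iff (Set.toFinite _)).1
      (show 1 < (perp D d).ncard by rw [hthree d hd]; norm_num)
    exact ⟨a, ha, b, hb, hab⟩
  · have hn : ¬ Commute a b := fun h => hab (hnc d hd a ha b hb h)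
    have e : a * b * a = cj a b := rfl
    have h1 : cj a b ∈ perp D d := hclosed d hd a ha b hb
    have h2 : cj a b ≠ a := fun h => hab ((cj_inj hD ha.1).1 (h.trans (cj_self hD ha.1).symm)).symm
    have h3 : cj a b ≠ b := fun h => hn ((cj_eq_self hD ha.1).1 h)
    by_contra hcon
    push Not at hcon
    have : ({a, b, cj a b, c} : Set G) ⊆ perp D d := by
      rintro z (rfl | rfl | rfl | rfl) <;> assumption
    have h4 := Set.ncard_le_ncard this (Set.toFinite _)
    rw [hthree d hd, Set.ncard_insert_of_notMem _ (Set.toFinite _), Set.ncard_insert_of_notMem _ (Set.toFinite _),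
      Set.ncard_pair (show cj a b ≠ c from hcon.2.2.symm)] at h4
    · omega
    · rintro (h | h)
      · exact h3 h.symm
      · exact hcon.2.1 h.symm
    · rintro (h | h | h)
      · exact hab h
      · exact h2 h.symm
      · exact hcon.1 h.symm

/-- A non-central odd core of a local group gives a clone. -/
theorem exists_isClone (hF : IsFischer D) {x : G} (hx : x ∈ D)
    (h : ¬ oddCore ↥(Subgroup.closure (perp D x)) ≤ Subgroup.center ↥(Subgroup.closure (perp D x))) :
    ∃ y w, IsClone D x y w := by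
  classical
  have hD := hF.toTrans
  set H := Subgroup.closure (perp D x)
  set E : Set H := {z : H | (z : G) ∈ perp D x}
  have hmem : ∀ u ∈ perp D x, u ∈ H := fun u hu => Subgroup.subset_closure hu
  obtain ⟨p, hp, hpx, hpc⟩ := exists_perp hF hx
  have hT : Trans E :=
    { set := ⟨fun d hd => by rw [← Subgroup.orderOf_coe]; exact hD.set.1 _ hd.1,
        fun d hd e he => (hD.set.2 _ hd.1 _ he.1).imp (fun h => Subtype.ext (by simpa using h))
          fun h => Subtype.ext (by simpa using h)⟩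
      conj := fun g d hd =>
        ((conj_mem_perp hD hx (Subgroup.closure_mono (Set.subset_insert _ _) g.2)).2 _ hd).1
      trans := fun u hu v hv => by
        obtain ⟨g, hg, e⟩ := perp_transitive hF hx hu hv
        exact ⟨⟨g, hg⟩, Subtype.ext e⟩
      gen := by
        rw [eq_top_iff]
        rintro ⟨z, hz⟩ -
        have hz' := hz
        induction hz' using Subgroup.closure_induction with
        | mem y hy => exact Subgroup.subset_closure (show (⟨y, hz⟩ : H) ∈ E from hy)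
        | one => exact one_mem _
        | mul y w hy hw ihy ihw => exact mul_mem (ihy hy) (ihw hw)
        | inv y hy ih => exact inv_mem (ih hy)
      ne := ⟨⟨p, hmem p ⟨hp, hpx, hpc⟩⟩, ⟨hp, hpx, hpc⟩⟩ }
  set N := oddCore H with hN
  have hodd : (Nat.card N).Coprime 2 := Lib.Core.pPrimeCore_coprime 2 H
  have hone : ∀ z ∈ N, z * z = 1 → z = 1 := by
    intro z hz hzz
    have h1 : orderOf z ∣ 2 := orderOf_dvd_of_pow_eq_one (by rw [pow_two]; exact hzz)
    have h2 : orderOf z ∣ Nat.card N := by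
      have := orderOf_dvd_natCard (⟨z, hz⟩ : N)
      rwa [← Subgroup.orderOf_coe] at this
    exact orderOf_eq_one_iff.1 (Nat.eq_one_of_dvd_coprimes hodd h2 h1)
  obtain ⟨a, ha, g, hg, hne⟩ : ∃ a ∈ E, ∃ g ∈ N, g * a * g⁻¹ ≠ a := by
    by_contra hcon
    push Not at hcon
    refine h fun g hg => Subgroup.mem_center_iff.2 fun z => ?_
    have hle : Subgroup.closure E ≤ Subgroup.centralizer {g} := by
      rw [Subgroup.closure_le]
      intro a ha
      rw [SetLike.mem_coe, Subgroup.mem_centralizer_singleton_iff]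
      exact (mul_inv_eq_iff_eq_mul.1 (hcon a ha g hg)).symm
    exact Subgroup.mem_centralizer_singleton_iff.1 (hle (hT.gen ▸ Subgroup.mem_top z))
  set S : Set H := (fun k => k * a * k⁻¹) '' (N : Set H)
  have hSE : S ⊆ E := by rintro _ ⟨k, -, rfl⟩; exact hT.conj k a ha
  have hSN : ∀ u ∈ S, a * u ∈ N := by rintro _ ⟨k, hk, rfl⟩; exact mul_conj_mem hT ha hk
  have haS : a ∈ S := ⟨1, one_mem _, by simp⟩
  have hnc : ∀ u ∈ S, ∀ v ∈ S, Commute u v → u = v := by
    intro u hu v hv hc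
    have huv : u * v ∈ N := by
      have := mul_mem (inv_mem (hSN u hu)) (hSN v hv)
      rwa [mul_inv_rev, mul_assoc, inv_mul_cancel_left, inv_eq hT (hSE hu)] at this
    have h1 := hone _ huv (by
      rw [← pow_two, hc.mul_pow, pow_two, pow_two, mul_self hT (hSE hu), mul_self hT (hSE hv), one_mul])
    rw [eq_inv_of_mul_eq_one_left h1, inv_eq hT (hSE hv)]
  have hcl : ∀ u ∈ S, ∀ v ∈ S, cj u v ∈ S := by
    rintro u hu _ ⟨k, hk, rfl⟩
    have hu' := inv_eq hT (hSE hu)
    have hua : u * a ∈ N := by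
      have := inv_mem (hSN u hu)
      rwa [mul_inv_rev, hu', inv_eq hT ha] at this
    refine ⟨(u * k * u⁻¹) * (u * a), mul_mem ((inferInstance : N.Normal).conj_mem k hk u) hua, ?_⟩
    show _ = cj u (k * a * k⁻¹)
    rw [cj_conj hT (hSE hu)]
    group
  obtain ⟨P, hP, hPm, -⟩ := exists_three_of_subset hT (fun u hu => hSE hu) hcl hnc haS
  set M := Subgroup.closure ((fun u => a * u) '' S) with hM
  have hMP : M ≤ P := (Subgroup.closure_le _).2 (by rintro _ ⟨u, hu, rfl⟩; exact hPm u hu)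
  have hMN : M ≤ N := (Subgroup.closure_le _).2 (by rintro _ ⟨u, hu, rfl⟩; exact hSN u hu)
  have hMn : (M.subgroupOf N).Normal := by
    refine (Subgroup.normal_subgroupOf_iff_le_normalizer hMN).2 fun k hk => ?_
    refine Subgroup.mem_normalizer_fintype fun z hz => ?_
    induction hz using Subgroup.closure_induction with
    | mem z hz =>
      obtain ⟨u, ⟨l, hl, rfl⟩, rfl⟩ := hz
      have h1 : a * (k * a * k⁻¹) ∈ M := Subgroup.subset_closure ⟨_, ⟨k, hk, rfl⟩, rfl⟩
      have h2 : a * (k * l * a * (k * l)⁻¹) ∈ M := Subgroup.subset_closure ⟨_, ⟨k * l, mul_mem hk hl, rfl⟩, rfl⟩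
      have h3 := mul_mem (inv_mem h1) h2
      have e : k * (a * (l * a * l⁻¹)) * k⁻¹ = (a * (k * a * k⁻¹))⁻¹ * (a * (k * l * a * (k * l)⁻¹)) := by
        rw [mul_inv_rev, mul_inv_rev (k * a), mul_inv_rev k a, inv_eq hT ha, inv_inv]
        rw [show k * (a * k⁻¹) * a * (a * (k * l * a * (k * l)⁻¹))
          = k * (a * k⁻¹) * (a * a) * (k * l * a * (k * l)⁻¹) by simp only [mul_assoc], mul_self hT ha]
        group
      rw [e]; exact h3
    | one => simp
    | mul u v _ _ hu hv => simpa [mul_assoc] using mul_mem hu hv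
    | inv u _ hu => simpa [mul_assoc] using inv_mem hu
  have hMK : M.subgroupOf N ≤ pCore 3 N :=
    Lib.Core.le_pCore' hMn ((hP.to_le hMP).of_equiv (Subgroup.subgroupOfEquivOfLe hMN).symm)
  have hNH : (pCore 3 N).map N.subtype ≤ pCore 3 H :=
    Lib.Core.le_pCore' inferInstance ((Lib.Core.pCore_isPGroup 3 N).map _)
  set b := g * a * g⁻¹ with hb
  have hbS : b ∈ S := ⟨g, hg, rfl⟩
  have habM : a * b ∈ M := Subgroup.subset_closure ⟨b, hbS, rfl⟩
  have hsame : perp E a = perp E b :=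
    (samePerp_iff hT ha (hSE hbS)).2 (hNH ⟨⟨a * b, hMN habM⟩, hMK habM, rfl⟩)
  refine ⟨a, b, ha, hSE hbS, fun e => hne (Subtype.ext e.symm), fun d hd => ?_⟩
  have key : ∀ c : H, (c : G) ∈ perp D x → ((⟨d, hmem d hd⟩ : H) ∈ perp E c ↔ d ∈ perp D (c : G)) := fun c _ =>
    ⟨fun hh => ⟨hd.1, fun e => hh.2.1 (Subtype.ext e), congrArg Subtype.val hh.2.2.eq⟩,
      fun hh => ⟨hd, fun e => hh.2.1 (congrArg Subtype.val e), Subtype.ext hh.2.2.eq⟩⟩
  rw [← key a ha, ← key b (hSE hbS), hsame]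

/-- The group is the symmetric group of degree five, the class going to the transpositions. -/
theorem sym_five_image (hF : IsFischer D) {x : G} (hx : x ∈ D)
    (h : ¬ oddCore ↥(Subgroup.closure (perp D x)) ≤ Subgroup.center ↥(Subgroup.closure (perp D x))) :
    ∃ e : G ≃* Equiv.Perm (Fin 5), e '' D = {σ : Equiv.Perm (Fin 5) | σ.IsSwap} := by
  obtain ⟨y₀, w₀, h₀⟩ := exists_isClone hF hx h
  have hC := cubic hF fun z hz y hy u hu hc => noncommuting_perp hF hx h₀ hz hy hu hc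
  obtain ⟨p, hp, q, hq, hpq⟩ := hC.two x hx
  obtain ⟨d, hd, z, hz, b, hb, hbz⟩ :
      ∃ d ∈ LocalSym.nbrs D x, ∃ z ∈ LocalSym.nbrs D x, ∃ b ∈ LocalSym.nbrs D d, b ∉ LocalSym.nbrs D z := by
    by_contra hcon
    push Not at hcon
    exact hpq (eq_of_perp_subset hF hp.1 hq.1 fun b hb => hcon p hp q hq b hb)
  obtain ⟨φ, hinj, hmem, hcl⟩ := hC.exists_sym_five hx hd hz hb hbz
  have hsurj : Function.Surjective φ := by
    rw [← MonoidHom.range_eq_top, eq_top_iff, ← hF.gen, Subgroup.closure_le]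
    intro e he
    obtain ⟨i, j, -, hij⟩ := hC.exists_eq_swap hinj hmem hcl he
    exact ⟨_, hij⟩
  refine ⟨(MulEquiv.ofBijective φ ⟨hinj, hsurj⟩).symm, Set.ext fun σ => ⟨?_, ?_⟩⟩
  · rintro ⟨e, he, rfl⟩
    obtain ⟨i, j, hne, hij⟩ := hC.exists_eq_swap hinj hmem hcl he
    exact ⟨i, j, hne, (MulEquiv.symm_apply_eq _).2 hij.symm⟩
  · rintro ⟨i, j, hne, rfl⟩
    exact ⟨φ (Equiv.swap i j), hmem i j hne, (MulEquiv.symm_apply_eq _).2 rfl⟩

/-- The group is the symmetric group of degree five. -/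
theorem iso_sym_five (hF : IsFischer D) {x : G} (hx : x ∈ D)
    (h : ¬ oddCore ↥(Subgroup.closure (perp D x)) ≤ Subgroup.center ↥(Subgroup.closure (perp D x))) :
    Nonempty (G ≃* Equiv.Perm (Fin 5)) :=
  let ⟨e, _⟩ := sym_five_image hF hx h
  ⟨e⟩

end Cfsg.Lib.Fischer.Clone
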